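import Cfsg.Agent.H252.ZNCtx
import Cfsg.Agent.S0112
import Cfsg.Agent.S0113
set_option linter.all false

-- part: H252/ZNStar
section
/-!
# ZN-groups: maximal straddling 2-subgroups

Consequences of the lexicographic maximality (`a(T)`, `|J(T)|`, `|T|`) for a member `T` of
`maxStraddlingTwoSubgroups M`.
-/

set_option autoImplicit false

namespace Cfsg.Agent.H252.ZNStar

open Subgroup Cfsg Cfsg.Agent.ZN Cfsg.Agent.ZN.ChoiceBase Cfsg.Agent.ZN.ChoiceSit

universe u

variable {G : Type u} [Group G]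

theorem maxElemAbelianOrder_eq [Finite G] (T : Subgroup G) : maxElemAbelianOrder T = mm T := by
  obtain ⟨A, hA⟩ := AA_nonempty T
  rw [mm_eq hA]
  have h1 := subgroupOf_mem_max hA
  have h2 : (fun A : Subgroup ↥T => Nat.card ↥A) '' maxElementaryAbelianSubgroups 2 ↥T =
      {Nat.card A} := by
    ext n
    constructor
    · rintro ⟨B, hB, rfl⟩
      have h3 := map_mem_AA hB
      have h4 : Nat.card (B.map T.subtype) = Nat.card A := by rw [← mm_eq h3, mm_eq hA]
      have h5 : Nat.card (B.map T.subtype) = Nat.card B :=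
        Nat.card_congr (Subgroup.equivMapOfInjective B _ T.subtype_injective).symm.toEquiv
      rw [Set.mem_singleton_iff, ← h4, h5]
    · rintro rfl
      exact ⟨A.subgroupOf T, h1, Nat.card_congr (Subgroup.subgroupOfEquivOfLe hA.2.1).toEquiv⟩
  rw [maxElemAbelianOrder, h2, csSup_singleton]

/-- A member of `maxStraddlingTwoSubgroups M` is maximal in `straddlingTwoSubgroups M`. -/
theorem eq_of_le [Finite G] {M T T₁ : Subgroup G} (hT : T ∈ maxStraddlingTwoSubgroups M)
    (h : T ≤ T₁) (h1 : T₁ ∈ straddlingTwoSubgroups M) : T = T₁ := by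
  obtain ⟨h2, h3⟩ := hT.2 T₁ h1
  rw [maxElemAbelianOrder_eq, maxElemAbelianOrder_eq] at h2 h3
  have h4 : mm T₁ = mm T := le_antisymm h2 (mm_mono h)
  obtain ⟨h5, h6⟩ := h3 h4
  have h7 : jj T ≤ jj T₁ := jj_mono h h4.le
  have h8 : Nat.card (jj T₁) = Nat.card (jj T) := le_antisymm h5 (Subgroup.card_le_of_le h7)
  exact Subgroup.eq_of_le_of_card_ge h (h6 h8)

/-- (t2) `N_G(J(T)) ≤ M`. -/
theorem normalizer_jj_le [Finite G] {M T : Subgroup G} (S : Sylow 2 G)
    (hMJ : normalizer ((jj (S : Subgroup G) : Subgroup G) : Set G) ≤ M)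
    (hT : T ∈ maxStraddlingTwoSubgroups M) :
    normalizer ((jj T : Subgroup G) : Set G) ≤ M := by
  obtain ⟨hTp, hT1, hTM, -⟩ := hT.1
  have hSM : (S : Subgroup G) ≤ M :=
    (le_normalizer.trans (normalizer_le_jj (S : Subgroup G))).trans hMJ
  obtain ⟨S₁, hS₁, hTS⟩ := exists_syl hTp hTM
  by_cases hne : T = S₁
  · obtain ⟨m, hm, hmS⟩ := syl_conj (CaseTwo.syl_of_sylow S hSM) hS₁
    rw [hne, ← hmS, jj_cj, ← cj_normalizer]
    calc cj m (normalizer ((jj (S : Subgroup G) : Subgroup G) : Set G)) ≤ cj m M := cj_mono m hMJ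
      _ = M := cj_eq_of_mem_normalizer (le_normalizer hm)
  · obtain ⟨x, hx1, hx2, hx3⟩ := CaseTwo.exists_normalizing hS₁.2.1 hTS hne
    by_contra hcon
    apply hx2
    have hle : T ⊔ zpowers x ≤ S₁ := sup_le hTS (by rwa [zpowers_le])
    have h1 : T ⊔ zpowers x ∈ straddlingTwoSubgroups M := by
      refine ⟨hS₁.2.1.to_le hle, fun h0 => hT1 (le_bot_iff.1 (le_sup_left.trans h0.le)),
        hle.trans hS₁.1, _, ⟨jj T, hTp.to_le (jj_le T), CaseTwo.jj_ne_bot hTp hT1, rfl⟩, ?_, hcon⟩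
      refine sup_le (le_normalizer.trans (normalizer_le_jj T)) ?_
      rw [zpowers_le]
      exact normalizer_le_jj T hx3
    rw [eq_of_le hT le_sup_left h1]
    exact le_sup_right (a := T) (mem_zpowers x)

/-- (t3) `T` is a Sylow 2-subgroup of every 2-local subgroup containing it and not contained
in `M`. -/
theorem syl_of_not_le [Finite G] {M T : Subgroup G}
    (hTJ : normalizer ((jj T : Subgroup G) : Set G) ≤ M)
    (hT : T ∈ maxStraddlingTwoSubgroups M) {X : Subgroup G} (hX : IsTwoLocal X) (hTX : T ≤ X)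
    (hXM : ¬ X ≤ M) : Syl T X := by
  obtain ⟨hTp, hT1, hTM, -⟩ := hT.1
  obtain ⟨T₀, hT₀, hTT⟩ := exists_syl hTp (le_inf hTX hTM)
  have h0 : T = T₀ := eq_of_le hT hTT ⟨hT₀.2.1, fun h => hT1 (le_bot_iff.1 (hTT.trans h.le)),
    hT₀.1.trans inf_le_right, X, hX, hT₀.1.trans inf_le_left, hXM⟩
  subst h0
  refine ⟨hTX, hTp, fun Q hQX hQ hTQ => ?_⟩
  by_contra hne
  obtain ⟨y, hy1, hy2, hy3⟩ := CaseTwo.exists_normalizing hQ hTQ (Ne.symm hne)
  apply hy2
  have hyM : y ∈ M := hTJ (normalizer_le_jj T hy3)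
  have h1 : T ⊔ zpowers y = T := by
    apply hT₀.2.2
    · refine sup_le (le_inf hTX hTM) ?_
      rw [zpowers_le]
      exact ⟨hQX hy1, hyM⟩
    · exact hQ.to_le (sup_le hTQ (by rwa [zpowers_le]))
    · exact le_sup_left
  rw [← h1]
  exact le_sup_right (a := T) (mem_zpowers y)

/-- (Z) a 2-local subgroup with Sylow 2-subgroup `T`, not contained in `M ≥ N_G(J(T))`, does not
normalize `Ω₁Z(T)`. -/
theorem not_le_normalizer_zc [Finite G] (hL : IsCharacteristicTwoType G)
    (hZ : ∀ S : Sylow 2 G, centralizer (zc (S : Subgroup G) : Set G) ≤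
      normalizer ((S : Subgroup G) : Set G))
    {M T X : Subgroup G} (hTJ : normalizer ((jj T : Subgroup G) : Set G) ≤ M)
    (hX : IsTwoLocal X) (hTX : Syl T X) (hXM : ¬ X ≤ M) :
    ¬ X ≤ normalizer ((zc T : Subgroup G) : Set G) := by
  intro hXn
  apply hXM
  refine le_trans ?_ ((normalizer_le_jj T).trans hTJ)
  have hK : X ⊓ centralizer (zc T : Set G) ≤ normalizer (T : Set G) := cent_zc_le hL hZ hX hTX
  have hTK : T ≤ X ⊓ centralizer (zc T : Set G) := by
    refine le_inf hTX.1 fun t ht => ?_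
    rw [mem_centralizer_iff]
    exact fun y hy => ((mem_zc.1 hy).2.2 t ht).symm
  intro g hg
  apply mem_normalizer_of_cj_le
  have h1 : cj g T ≤ X ⊓ centralizer (zc T : Set G) := by
    have h2 := cj_mono g hTK
    rwa [cj_inf, cj_centralizer, cj_eq_of_mem_normalizer (le_normalizer hg),
      cj_eq_of_mem_normalizer (hXn hg)] at h2
  have h2 : IsPGroup 2 ↥(cj g T ⊔ T) :=
    IsPGroup.to_sup_of_normal_right' (hTX.2.1.map _) hTX.2.1 (h1.trans hK)
  have h3 := hTX.2.2 (cj g T ⊔ T) (sup_le (h1.trans inf_le_left) hTX.1) h2 le_sup_right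
  exact le_sup_left.trans h3.le

/-- `Ω₁Z(T) ≤ Ω₁Z(O₂(X))` for `T` Sylow in the 2-local `X`. -/
theorem zc_le_zc_o2 [Finite G] (hL : IsCharacteristicTwoType G) {T X : Subgroup G}
    (hX : IsTwoLocal X) (hTX : Syl T X) : zc T ≤ zc (o2 X) := by
  intro x hx
  have hx' := mem_zc.1 hx
  have h1 : o2 X ≤ T := o2_le_syl hTX
  rw [mem_zc]
  refine ⟨self_cent hL hX (mem_inf.2 ⟨hTX.1 hx'.1, ?_⟩), hx'.2.1, fun y hy => hx'.2.2 y (h1 hy)⟩
  rw [mem_centralizer_iff]
  exact fun y hy => hx'.2.2 y (h1 hy)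

/-- `X` normalizes `Ω₁Z(O₂(X))`. -/
theorem le_normalizer_zc_o2 (X : Subgroup G) :
    X ≤ normalizer ((zc (o2 X) : Subgroup G) : Set G) := by
  intro g hg
  rw [mem_normalizer_iff]
  intro x
  refine ⟨fun hx => FinalBridge.zc_conj (le_normalizer_o2 X hg) hx, fun hx => ?_⟩
  have h1 := FinalBridge.zc_conj (inv_mem (le_normalizer_o2 X hg)) hx
  have h2 : g⁻¹ * (g * x * g⁻¹) * g⁻¹⁻¹ = x := by group
  rwa [h2] at h1

/-- In a group of characteristic 2 type `C_G(O₂(X)) ≤ O₂(X)` for 2-local `X`. -/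
theorem centralizer_o2_le [Finite G] (hL : IsCharacteristicTwoType G) {X : Subgroup G}
    (hX : IsTwoLocal X) : centralizer ((o2 X : Subgroup G) : Set G) ≤ o2 X := by
  have h1 := self_cent hL hX
  refine le_trans (le_inf ?_ le_rfl) h1
  obtain ⟨U, hU, hne, rfl⟩ := hX
  have hUX : U ≤ o2 (normalizer (U : Set G)) := le_o2 hU le_normalizer le_rfl
  exact (centralizer_le hUX).trans (centralizer_le_normalizer _)

/-- `Ω₁Z(T)` is properly contained in `Ω₁Z(O₂(X))`. -/
theorem zc_lt [Finite G] (hL : IsCharacteristicTwoType G)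
    (hZ : ∀ S : Sylow 2 G, centralizer (zc (S : Subgroup G) : Set G) ≤
      normalizer ((S : Subgroup G) : Set G))
    {M T X : Subgroup G} (hTJ : normalizer ((jj T : Subgroup G) : Set G) ≤ M)
    (hX : IsTwoLocal X) (hTX : Syl T X) (hXM : ¬ X ≤ M) : zc T < zc (o2 X) := by
  refine lt_of_le_of_ne (zc_le_zc_o2 hL hX hTX) fun h => ?_
  apply not_le_normalizer_zc hL hZ hTJ hX hTX hXM
  rw [h]
  exact le_normalizer_zc_o2 X

end Cfsg.Agent.H252.ZNStar
end

-- part: H252/ZNCross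
section
/-!
# Two self-centralizing elementary abelian subgroups of index two

`Cross e T U₁ U₂`: `T` is a 2-group of order `8e`, `U₁ ≠ U₂` are self-centralizing elementary abelian
subgroups of index two in `T` (of order `4e`), with intersection of order `2e`. (`e = 1`: dihedral of
order 8; `e = 2`: dihedral of order 8 times order 2.)
-/

set_option autoImplicit false

namespace Cfsg.Agent.H252.ZNCross

open Subgroup Cfsg Cfsg.Agent.ZN Cfsg.Agent.ZN.ChoiceBase Cfsg.Agent.ZN.ChoiceSit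
open Cfsg.Agent.Classification.ZNEndA Cfsg.Agent.Classification.ZNEndB

universe u

variable {G : Type u} [Group G]

structure Cross (e : ℕ) (T U₁ U₂ : Subgroup G) : Prop where
  pos : 0 < e
  two : IsPGroup 2 T
  cardT : Nat.card T = 8 * e
  le₁ : U₁ ≤ T
  le₂ : U₂ ≤ T
  ne : U₁ ≠ U₂
  card₁ : Nat.card U₁ = 4 * e
  card₂ : Nat.card U₂ = 4 * e
  elem₁ : ∀ a ∈ U₁, a * a = 1
  elem₂ : ∀ a ∈ U₂, a * a = 1
  cent₁ : centralizer (U₁ : Set G) ≤ U₁
  cent₂ : centralizer (U₂ : Set G) ≤ U₂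

theorem isElem_of {U : Subgroup G} (h : ∀ a ∈ U, a * a = 1) : IsElementaryAbelian 2 U :=
  ⟨⟨⟨fun a b => Subtype.ext (comm_of_elem h a.2 b.2)⟩⟩, fun a ha => by rw [pow_two]; exact h a ha⟩

theorem sq_of_isElem {U : Subgroup G} (h : IsElementaryAbelian 2 U) : ∀ a ∈ U, a * a = 1 :=
  fun a ha => by rw [← pow_two]; exact h.2 a ha

/-- A subgroup contained in the union of two subgroups is contained in one of them. -/
theorem le_or_le {W U₁ U₂ : Subgroup G} (h : ∀ w ∈ W, w ∈ U₁ ∨ w ∈ U₂) : W ≤ U₁ ∨ W ≤ U₂ := by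
  by_contra hcon
  push Not at hcon
  obtain ⟨h1, h2⟩ := hcon
  obtain ⟨a, ha, ha1⟩ := Set.not_subset.1 h1
  obtain ⟨b, hb, hb2⟩ := Set.not_subset.1 h2
  have ha2 : a ∈ U₂ := (h a ha).resolve_left ha1
  have hb1 : b ∈ U₁ := (h b hb).resolve_right hb2
  rcases h (a * b) (mul_mem ha hb) with h3 | h3
  · apply ha1
    have := mul_mem h3 (inv_mem hb1)
    rwa [mul_inv_cancel_right] at this
  · apply hb2
    have := mul_mem (inv_mem ha2) h3
    rwa [inv_mul_cancel_left] at this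

namespace Cross

variable {e : ℕ} {T U₁ U₂ : Subgroup G}

theorem symm (h : Cross e T U₁ U₂) : Cross e T U₂ U₁ :=
  ⟨h.pos, h.two, h.cardT, h.le₂, h.le₁, h.ne.symm, h.card₂, h.card₁, h.elem₂, h.elem₁, h.cent₂,
    h.cent₁⟩

theorem relIndex₁ (h : Cross e T U₁ U₂) : U₁.relIndex T = 2 := by
  have h1 := card_mul_relIndex h.le₁
  rw [h.card₁, h.cardT] at h1
  have h2 : 4 * e * U₁.relIndex T = 4 * e * 2 := by rw [h1]; ring
  exact Nat.eq_of_mul_eq_mul_left (by have := h.pos; omega) h2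

theorem relIndex₂ (h : Cross e T U₁ U₂) : U₂.relIndex T = 2 := h.symm.relIndex₁

theorem le_normalizer_of_relIndex_two {H K : Subgroup G} (hHK : H ≤ K) (h : H.relIndex K = 2) :
    K ≤ normalizer (H : Set G) := by
  have h1 : (H.subgroupOf K).index = 2 := h
  have h2 : (H.subgroupOf K).Normal := Subgroup.normal_of_index_eq_two h1
  exact (Subgroup.normal_subgroupOf_iff_le_normalizer hHK).1 h2

theorem norm₁ (h : Cross e T U₁ U₂) : T ≤ normalizer (U₁ : Set G) :=
  le_normalizer_of_relIndex_two h.le₁ h.relIndex₁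

theorem norm₂ (h : Cross e T U₁ U₂) : T ≤ normalizer (U₂ : Set G) := h.symm.norm₁

theorem not_le [Finite G] (h : Cross e T U₁ U₂) : ¬ U₁ ≤ U₂ := fun h1 =>
  h.ne (Subgroup.eq_of_le_of_card_ge h1 (by rw [h.card₁, h.card₂]))

theorem not_le' [Finite G] (h : Cross e T U₁ U₂) : ¬ U₂ ≤ U₁ := h.symm.not_le

theorem mul_mem₁ (h : Cross e T U₁ U₂) {a b : G} (ha : a ∈ T) (hb : b ∈ T) (ha1 : a ∉ U₁)
    (hb1 : b ∉ U₁) : a * b ∈ U₁ := mul_mem_of_relIndex_two h.relIndex₁ ha hb ha1 hb1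

theorem mul_mem₂ (h : Cross e T U₁ U₂) {a b : G} (ha : a ∈ T) (hb : b ∈ T) (ha1 : a ∉ U₂)
    (hb1 : b ∉ U₂) : a * b ∈ U₂ := h.symm.mul_mem₁ ha hb ha1 hb1

theorem card_inf [Finite G] (h : Cross e T U₁ U₂) : Nat.card ↥(U₁ ⊓ U₂) = 2 * e := by
  have h1 : (U₁ ⊓ U₂).relIndex U₁ = 2 := by
    rw [inf_relIndex_left]
    have h2 : U₂.relIndex U₁ ≤ 2 :=
      (relIndex_le_of_le_right h.le₁ (by rw [h.relIndex₂]; norm_num)).trans h.relIndex₂.le
    have h3 : U₂.relIndex U₁ ≠ 1 := by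
      rw [Ne, relIndex_eq_one]
      exact h.not_le
    have h4 : U₂.relIndex U₁ ≠ 0 := index_ne_zero_of_finite (H := U₂.subgroupOf U₁)
    omega
  have h2 := card_mul_relIndex (inf_le_left : U₁ ⊓ U₂ ≤ U₁)
  rw [h1, h.card₁] at h2
  omega

theorem sup_eq [Finite G] (h : Cross e T U₁ U₂) : U₁ ⊔ U₂ = T := by
  apply le_antisymm (sup_le h.le₁ h.le₂)
  obtain ⟨b, hb, hb1⟩ := Set.not_subset.1 h.not_le'
  intro t ht
  by_cases h1 : t ∈ U₁
  · exact le_sup_left (a := U₁) h1
  · have h2 := h.mul_mem₁ ht (inv_mem (h.le₂ hb)) h1 (fun h3 => hb1 (inv_mem_iff.1 h3))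
    have h3 : t = t * b⁻¹ * b := by group
    rw [h3]
    exact mul_mem (le_sup_left (a := U₁) h2) (le_sup_right (a := U₁) hb)

/-- An involution-closed element outside `U₁ ∪ U₂` has order four. -/
theorem mem_or_of_sq [Finite G] (h : Cross e T U₁ U₂) {x : G} (hx : x ∈ T) (hx2 : x * x = 1) :
    x ∈ U₁ ∨ x ∈ U₂ := by
  by_contra hcon
  push Not at hcon
  obtain ⟨hx1, hxU2⟩ := hcon
  obtain ⟨b, hb, hb1⟩ := Set.not_subset.1 h.not_le'
  have hb' : b⁻¹ ∉ U₁ := fun h3 => hb1 (inv_mem_iff.1 h3)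
  have hv : x * b⁻¹ ∈ U₁ := h.mul_mem₁ hx (inv_mem (h.le₂ hb)) hx1 hb'
  set v := x * b⁻¹ with hvdef
  have hxv : x = v * b := by rw [hvdef]; group
  have hv2 : v ∉ U₂ := by
    intro h3
    apply hxU2
    rw [hxv]
    exact mul_mem h3 hb
  have hvv : v * v = 1 := h.elem₁ v hv
  have hbb : b * b = 1 := h.elem₂ b hb
  have hcomm : v * b = b * v := by
    rw [hxv] at hx2
    have h3 : v * b * (v * b) = 1 := hx2
    calc v * b = v * b * 1 := by rw [mul_one]
      _ = v * b * (v * b * (v * b)) := by rw [h3]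
      _ = v * b * (v * b) * (v * b) := by group
      _ = 1 * (v * b) := by rw [h3]
      _ = (v * v) * (v * b) * (b * b) * 1 := by rw [hvv, hbb]; group
      _ = (v * v) * (v * b) * (b * b) * (v * b * (v * b))⁻¹ := by rw [h3, inv_one]
      _ = v * v * v * b * b * b * b⁻¹ * v⁻¹ * b⁻¹ * v⁻¹ := by group
      _ = v * (v * v) * (b * b) * v⁻¹ * b⁻¹ * v⁻¹ := by group
      _ = v * v⁻¹ * b⁻¹ * v⁻¹ := by rw [hvv, hbb]; group
      _ = b⁻¹ * v⁻¹ := by group
      _ = b * v := by rw [inv_eq_of_mul_eq_one_left hbb, inv_eq_of_mul_eq_one_left hvv]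
  -- `b` centralizes `U₁`
  apply hb1
  apply h.cent₁
  rw [mem_centralizer_iff]
  intro a ha
  by_cases ha2 : a ∈ U₂
  · exact comm_of_elem h.elem₂ ha2 hb
  · have h4 : a * v ∈ U₂ := h.mul_mem₂ (h.le₁ ha) (h.le₁ hv) ha2 hv2
    have h5 : (a * v) * b = b * (a * v) := comm_of_elem h.elem₂ h4 hb
    have h6 : v * a = a * v := comm_of_elem h.elem₁ hv ha
    have h7 : a * b * v = b * a * v := by
      calc a * b * v = a * (b * v) := by group
        _ = a * (v * b) := by rw [hcomm]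
        _ = (a * v) * b := by group
        _ = b * (a * v) := h5
        _ = b * a * v := by group
    exact mul_right_cancel h7

/-- Elementary abelian subgroups of `T` lie in `U₁` or in `U₂`. -/
theorem elem_le_or [Finite G] (h : Cross e T U₁ U₂) {W : Subgroup G} (hWT : W ≤ T)
    (hW : ∀ a ∈ W, a * a = 1) : W ≤ U₁ ∨ W ≤ U₂ :=
  le_or_le fun w hw => h.mem_or_of_sq (hWT hw) (hW w hw)

theorem eq_or_of_card [Finite G] (h : Cross e T U₁ U₂) {W : Subgroup G} (hWT : W ≤ T)
    (hW : ∀ a ∈ W, a * a = 1) (hc : 4 * e ≤ Nat.card W) : W = U₁ ∨ W = U₂ := by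
  rcases h.elem_le_or hWT hW with h1 | h1
  · exact Or.inl (Subgroup.eq_of_le_of_card_ge h1 (by rw [h.card₁]; exact hc))
  · exact Or.inr (Subgroup.eq_of_le_of_card_ge h1 (by rw [h.card₂]; exact hc))

theorem AA_eq [Finite G] (h : Cross e T U₁ U₂) : AA T = {U₁, U₂} := by
  ext W
  constructor
  · intro hW
    have h1 := hW.2.2 U₁ (isElem_of h.elem₁) h.le₁
    rw [h.card₁] at h1
    exact h.eq_or_of_card hW.2.1 (sq_of_isElem hW.1) h1
  · have key : ∀ B : Subgroup G, IsElementaryAbelian 2 B → B ≤ T → Nat.card B ≤ 4 * e := by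
      intro B hB hBT
      rcases h.elem_le_or hBT (sq_of_isElem hB) with h1 | h1
      · rw [← h.card₁]; exact Subgroup.card_le_of_le h1
      · rw [← h.card₂]; exact Subgroup.card_le_of_le h1
    rintro (rfl | rfl)
    · exact ⟨isElem_of h.elem₁, h.le₁, fun B hB hBT => by rw [h.card₁]; exact key B hB hBT⟩
    · exact ⟨isElem_of h.elem₂, h.le₂, fun B hB hBT => by rw [h.card₂]; exact key B hB hBT⟩

theorem jj_eq [Finite G] (h : Cross e T U₁ U₂) : jj T = T := by
  rw [ChoiceBase.jj_eq, h.AA_eq, sSup_pair, h.sup_eq]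

theorem mm_eq [Finite G] (h : Cross e T U₁ U₂) : mm T = 4 * e := by
  rw [← h.card₁]
  apply ChoiceBase.mm_eq
  rw [h.AA_eq]
  exact Or.inl rfl

/-- `Ω₁Z(T) = U₁ ∩ U₂`. -/
theorem zc_eq [Finite G] (h : Cross e T U₁ U₂) : zc T = U₁ ⊓ U₂ := by
  ext x
  rw [mem_zc, mem_inf]
  constructor
  · rintro ⟨-, -, h3⟩
    refine ⟨h.cent₁ ?_, h.cent₂ ?_⟩
    · rw [mem_centralizer_iff]; exact fun y hy => h3 y (h.le₁ hy)
    · rw [mem_centralizer_iff]; exact fun y hy => h3 y (h.le₂ hy)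
  · rintro ⟨h1, h2⟩
    refine ⟨h.le₁ h1, by rw [pow_two]; exact h.elem₁ x h1, fun y hy => ?_⟩
    have h4 : T ≤ centralizer ({x} : Set G) := by
      rw [← h.sup_eq]
      refine sup_le ?_ ?_
      · intro y hy
        rw [mem_centralizer_singleton_iff]
        exact comm_of_elem h.elem₁ hy h1
      · intro y hy
        rw [mem_centralizer_singleton_iff]
        exact comm_of_elem h.elem₂ hy h2
    exact mem_centralizer_singleton_iff.1 (h4 hy)

/-- Every element of `N_G(T)` fixes or swaps `U₁, U₂`. -/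
theorem fix_or_swap [Finite G] (h : Cross e T U₁ U₂) {g : G} (hg : g ∈ normalizer (T : Set G)) :
    (cj g U₁ = U₁ ∧ cj g U₂ = U₂) ∨ (cj g U₁ = U₂ ∧ cj g U₂ = U₁) := by
  have hgT : cj g T = T := cj_eq_of_mem_normalizer hg
  have key : ∀ U ∈ AA T, cj g U ∈ AA T := by
    intro U hU
    have := cj_mem_AA g hU
    rwa [hgT] at this
  have hinj : cj g U₁ ≠ cj g U₂ := by
    intro h1
    apply h.ne
    rw [← cj_inv_cj g U₁, h1, cj_inv_cj]
  have h1 : cj g U₁ = U₁ ∨ cj g U₁ = U₂ := by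
    have := key U₁ (by rw [h.AA_eq]; exact Or.inl rfl)
    rw [h.AA_eq] at this
    exact this
  have h2 : cj g U₂ = U₁ ∨ cj g U₂ = U₂ := by
    have := key U₂ (by rw [h.AA_eq]; exact Or.inr rfl)
    rw [h.AA_eq] at this
    exact this
  rcases h1 with h1 | h1 <;> rcases h2 with h2 | h2
  · exact absurd (h1.trans h2.symm) hinj
  · exact Or.inl ⟨h1, h2⟩
  · exact Or.inr ⟨h1, h2⟩
  · exact absurd (h1.trans h2.symm) hinj

theorem cj [Finite G] (h : Cross e T U₁ U₂) (g : G) : Cross e (cj g T) (cj g U₁) (cj g U₂) where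
  pos := h.pos
  two := isPGroup_cj g h.two
  cardT := by rw [card_cj]; exact h.cardT
  le₁ := cj_mono g h.le₁
  le₂ := cj_mono g h.le₂
  ne := by
    intro h1
    apply h.ne
    rw [← cj_inv_cj g U₁, h1, cj_inv_cj]
  card₁ := by rw [card_cj]; exact h.card₁
  card₂ := by rw [card_cj]; exact h.card₂
  elem₁ := fun a ha => by
    have h1 := h.elem₁ _ (mem_cj.1 ha)
    have h2 : a * a = g * (g⁻¹ * a * g * (g⁻¹ * a * g)) * g⁻¹ := by group
    rw [h2, h1]; group
  elem₂ := fun a ha => by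
    have h1 := h.elem₂ _ (mem_cj.1 ha)
    have h2 : a * a = g * (g⁻¹ * a * g * (g⁻¹ * a * g)) * g⁻¹ := by group
    rw [h2, h1]; group
  cent₁ := by
    rw [← cj_centralizer]
    exact cj_mono g h.cent₁
  cent₂ := by
    rw [← cj_centralizer]
    exact cj_mono g h.cent₂

end Cross

end Cfsg.Agent.H252.ZNCross
end

-- part: H252/ZNData
section
/-!
# ZN-groups: the data `Dat e B U₁ U₂` extracted from the amalgam context
-/

set_option autoImplicit false

namespace Cfsg.Agent.H252.ZNData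

open Subgroup Cfsg Cfsg.Agent.ZN Cfsg.Agent.ZN.ChoiceBase Cfsg.Agent.ZN.ChoiceSit
open Cfsg.Agent.Classification.ZNEndA Cfsg.Agent.Classification.ZNEndB
open Cfsg.Agent.H252.ZNCross

universe u

variable {G : Type u} [Group G]

/-- `B = U₁ U₂` with `Uᵢ` self-centralizing elementary abelian of order `4e`, `|N_G(Uᵢ)| = 24e`, both
`N_G(Uᵢ)` maximal 2-local; for `e = 2` there are central elements `cᵢ` of `N_G(Uᵢ)` in `Uᵢ`. -/
structure Dat (e : ℕ) (B U₁ U₂ : Subgroup G) : Prop where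
  he : e = 1 ∨ e = 2
  cross : Cross e B U₁ U₂
  norm₁ : Nat.card (normalizer (U₁ : Set G)) = 24 * e
  norm₂ : Nat.card (normalizer (U₂ : Set G)) = 24 * e
  max₁ : IsMaximalTwoLocal (normalizer (U₁ : Set G))
  max₂ : IsMaximalTwoLocal (normalizer (U₂ : Set G))
  c : e = 2 → ∃ c₁ c₂ : G, Good48 U₁ c₁ ∧ Good48 U₂ c₂ ∧ c₁ ≠ c₂

theorem isMaximalTwoLocal_of_ctx [Finite G] {N B P Q : Subgroup G}
    (hL : IsCharacteristicTwoType G) (h : Ctx N B P Q)
    (h1 : o2 P = zl B P) (h4 : Nat.card (zc B) ≤ 4) :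
    IsMaximalTwoLocal (normalizer (o2 P : Set G)) := by
  have hP := FinalBridge.normalizer_o2_eq hL h h1 h4
  refine ⟨FinalBridge.isTwoLocal_normalizer_o2 h h1, fun X hX hle => ?_⟩
  rw [hP] at hle
  have h2 := FinalBridge.le_normalizer_of_isTwoLocal h h1 hX hle
  apply le_antisymm (h2.trans (FinalBridge.normalizer_le_normalizer_o2 P))
  rw [hP]; exact hle

/-- The data attached to a context. -/
theorem exists_dat_of_ctx [Finite G] {N B P Q : Subgroup G}
    (hL : IsCharacteristicTwoType G) (h : Ctx N B P Q) :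
    ∃ (e : ℕ) (U₁ U₂ : Subgroup G), Dat e B U₁ U₂ := by
  obtain ⟨h1, h2, h3, h4⟩ := Amalgam.result h
  have hs := FinalBridge.ctx_symm h
  obtain ⟨e, he, hE₁, hE₂, hcard₁, hcard₂, hC₁, hC₂, hN₁, hN₂, h12, h21, hinf, hc⟩ :=
    FinalBridge.data hL h h1 h2 h3 h4
  have hB := FinalBridge.card_base h.blkP
  have hne : o2 P ≠ o2 Q := by
    intro hh
    rw [hh, inf_idem, hcard₂] at hinf
    omega
  refine ⟨e, o2 P, o2 Q, he, ⟨by omega, h.blkP.two, by rw [hB, hcard₁]; ring, h.blkP.o2_le,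
    h.blkQ.o2_le, hne, hcard₁, hcard₂, hE₁, hE₂, hC₁, hC₂⟩, hN₁, hN₂,
    isMaximalTwoLocal_of_ctx hL h h1 h4, isMaximalTwoLocal_of_ctx hL hs h2 h4, ?_⟩
  intro he2
  subst he2
  obtain ⟨c₁, hc₁, c₂, hc₂, hc₁1, hc₂1, hcne, hcen₁, hcen₂⟩ := hc rfl
  exact ⟨c₁, c₂, ⟨hcard₁, hE₁, hC₁, hN₁, hc₁, hc₁1, hcen₁⟩,
      ⟨hcard₂, hE₂, hC₂, hN₂, hc₂, hc₂1, hcen₂⟩, hcne⟩

theorem isMaximalTwoLocal_cj {M : Subgroup G} (g : G) (h : IsMaximalTwoLocal M) :
    IsMaximalTwoLocal (cj g M) := by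
  refine ⟨isTwoLocal_cj g h.1, fun N hN hle => ?_⟩
  have h1 := h.2 (cj g⁻¹ N) (isTwoLocal_cj _ hN) (by
    have := cj_mono g⁻¹ hle
    rwa [cj_inv_cj] at this)
  rw [← h1, cj_cj_inv]

theorem good48_cj {U : Subgroup G} {c : G} (h : Good48 U c) (g : G) :
    Good48 (cj g U) (g * c * g⁻¹) where
  card := by rw [card_cj]; exact h.card
  elem := fun a ha => by
    have h1 := h.elem _ (mem_cj.1 ha)
    have h2 : a * a = g * (g⁻¹ * a * g * (g⁻¹ * a * g)) * g⁻¹ := by group
    rw [h2, h1]; group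
  cent := by
    rw [← cj_centralizer]
    exact cj_mono g h.cent
  norm := by
    rw [← cj_normalizer, card_cj]
    exact h.norm
  mem := by
    rw [mem_cj]
    have : g⁻¹ * (g * c * g⁻¹) * g = c := by group
    rw [this]; exact h.mem
  ne_one := by
    intro h1
    apply h.ne_one
    have : c = g⁻¹ * (g * c * g⁻¹) * g := by group
    rw [this, h1]; group
  comm := by
    intro x hx
    rw [← cj_normalizer] at hx
    have h1 := h.comm _ (mem_cj.1 hx)
    calc x * (g * c * g⁻¹) = g * ((g⁻¹ * x * g) * c) * g⁻¹ := by group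
      _ = g * (c * (g⁻¹ * x * g)) * g⁻¹ := by rw [h1]
      _ = g * c * g⁻¹ * x := by group

namespace Dat

variable {e : ℕ} {B U₁ U₂ : Subgroup G}

theorem symm (h : Dat e B U₁ U₂) : Dat e B U₂ U₁ :=
  ⟨h.he, h.cross.symm, h.norm₂, h.norm₁, h.max₂, h.max₁, fun he => by
    obtain ⟨c₁, c₂, h1, h2, h3⟩ := h.c he
    exact ⟨c₂, c₁, h2, h1, h3.symm⟩⟩

theorem cj [Finite G] (h : Dat e B U₁ U₂) (g : G) : Dat e (cj g B) (cj g U₁) (cj g U₂) where
  he := h.he
  cross := h.cross.cj g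
  norm₁ := by rw [← cj_normalizer, card_cj]; exact h.norm₁
  norm₂ := by rw [← cj_normalizer, card_cj]; exact h.norm₂
  max₁ := by rw [← cj_normalizer]; exact isMaximalTwoLocal_cj g h.max₁
  max₂ := by rw [← cj_normalizer]; exact isMaximalTwoLocal_cj g h.max₂
  c := fun he => by
    obtain ⟨c₁, c₂, h1, h2, h3⟩ := h.c he
    refine ⟨_, _, good48_cj h1 g, good48_cj h2 g, fun h4 => h3 ?_⟩
    exact mul_left_cancel (mul_right_cancel h4)

theorem good24 (h : Dat 1 B U₁ U₂) : Good24 U₁ :=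
  ⟨h.cross.card₁, h.cross.elem₁, h.cross.cent₁, h.norm₁⟩

theorem good24' (h : Dat 1 B U₁ U₂) : Good24 U₂ := h.symm.good24

/-- `B` has index three in `N_G(U₁)`. -/
theorem relIndex (h : Dat e B U₁ U₂) : B.relIndex (normalizer (U₁ : Set G)) = 3 := by
  have h1 := card_mul_relIndex h.cross.norm₁
  rw [h.cross.cardT, h.norm₁] at h1
  have h2 : 8 * e * B.relIndex (normalizer (U₁ : Set G)) = 8 * e * 3 := by rw [h1]; ring
  exact Nat.eq_of_mul_eq_mul_left (by have := h.cross.pos; omega) h2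

/-- A subgroup between `B` and `N_G(U₁)` is one of the two. -/
theorem eq_or_eq [Finite G] (h : Dat e B U₁ U₂) {X : Subgroup G} (h1 : B ≤ X)
    (h2 : X ≤ normalizer (U₁ : Set G)) : X = B ∨ X = normalizer (U₁ : Set G) := by
  have h3 := relIndex_mul_relIndex B X (normalizer (U₁ : Set G)) h1 h2
  rw [h.relIndex] at h3
  have h4 : B.relIndex X ∣ 3 := ⟨_, h3.symm⟩
  rcases (Nat.dvd_prime (by norm_num)).1 h4 with h5 | h5
  · exact Or.inl (le_antisymm (relIndex_eq_one.1 h5) h1)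
  · rw [h5] at h3
    exact Or.inr (le_antisymm h2 (relIndex_eq_one.1 (by omega)))

theorem normalizer_ne [Finite G] (h : Dat e B U₁ U₂) :
    normalizer (U₁ : Set G) ≠ normalizer (U₂ : Set G) := by
  intro hN
  rcases h.he with rfl | rfl
  · apply h.cross.ne
    apply le_antisymm
    · exact h.good24'.le_of_normal h.good24.isPGroup (h.cross.le₁.trans h.cross.norm₂) hN.ge
    · exact h.good24.le_of_normal h.good24'.isPGroup (h.cross.le₂.trans h.cross.norm₁) hN.le
  · obtain ⟨c₁, c₂, h1, h2, h3⟩ := h.c rfl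
    obtain ⟨W, x, hW⟩ := h1.exists_W
    have h5 : U₁ ⊓ U₂ = W := by
      apply hW.unique h1 inf_le_left h.cross.card_inf
      intro g hg
      have hg2 : g ∈ normalizer (U₂ : Set G) := hN ▸ hg
      apply mem_normalizer_of_cj_le
      rw [cj_inf, cj_eq_of_mem_normalizer hg, cj_eq_of_mem_normalizer hg2]
    apply hW.notMem
    rw [← h5]
    refine mem_inf.2 ⟨h1.mem, h.cross.cent₂ ?_⟩
    rw [mem_centralizer_iff]
    exact fun u hu => h1.comm u (h.cross.norm₁ (h.cross.le₂ hu))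

theorem inf_normalizer [Finite G] (h : Dat e B U₁ U₂) :
    normalizer (U₁ : Set G) ⊓ normalizer (U₂ : Set G) = B := by
  rcases h.eq_or_eq (le_inf h.cross.norm₁ h.cross.norm₂) inf_le_left with h1 | h1
  · exact h1
  · exfalso
    rcases h.symm.eq_or_eq (le_inf h.cross.norm₁ h.cross.norm₂) inf_le_right with h2 | h2
    · have h3 : B = normalizer (U₁ : Set G) := h2.symm.trans h1
      have h4 := h.relIndex
      rw [← h3, relIndex_self] at h4
      omega
    · exact h.normalizer_ne (h1.symm.trans h2)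

/-- `N_G(B) ∩ N_G(U₁) = B`. -/
theorem normalizer_inf [Finite G] (h : Dat e B U₁ U₂) :
    normalizer (B : Set G) ⊓ normalizer (U₁ : Set G) = B := by
  rw [← h.inf_normalizer]
  apply le_antisymm
  · intro g hg
    obtain ⟨hg1, hg2⟩ := mem_inf.1 hg
    refine mem_inf.2 ⟨hg2, ?_⟩
    rw [h.inf_normalizer] at hg1
    rcases h.cross.fix_or_swap hg1 with h3 | h3
    · exact mem_normalizer_iff_cj.2 h3.2
    · exfalso
      apply h.cross.ne
      rw [← h3.1]
      exact (cj_eq_of_mem_normalizer hg2).symm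
  · rw [h.inf_normalizer]
    exact le_inf le_normalizer h.cross.norm₁

/-- An element of `N_G(B)` outside `B` swaps `U₁` and `U₂`. -/
theorem swap_of_not_mem [Finite G] (h : Dat e B U₁ U₂) {g : G} (hg : g ∈ normalizer (B : Set G))
    (hgB : g ∉ B) : ChoiceBase.cj g U₁ = U₂ ∧ ChoiceBase.cj g U₂ = U₁ := by
  rcases h.cross.fix_or_swap hg with h3 | h3
  · exfalso
    apply hgB
    rw [← h.normalizer_inf]
    exact mem_inf.2 ⟨hg, mem_normalizer_iff_cj.2 h3.1⟩
  · exact h3

/-- `N_G(B)` is a 2-group. -/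
theorem isPGroup_normalizer [Finite G] (h : Dat e B U₁ U₂) :
    IsPGroup 2 ↥(normalizer (B : Set G)) := by
  rintro ⟨g, hg⟩
  have hsq : g ^ 2 ∈ B := by
    by_cases hgB : g ∈ B
    · exact pow_mem hgB 2
    · have h1 := h.swap_of_not_mem hg hgB
      rw [← h.normalizer_inf]
      refine mem_inf.2 ⟨pow_mem hg 2, ?_⟩
      rw [mem_normalizer_iff_cj, pow_two, ← cj_cj, h1.1, h1.2]
  obtain ⟨k, hk⟩ := h.cross.two ⟨g ^ 2, hsq⟩
  refine ⟨k + 1, Subtype.ext ?_⟩
  have h2 := congrArg Subtype.val hk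
  simp only [SubmonoidClass.mk_pow, OneMemClass.coe_one] at h2 ⊢
  rw [pow_succ', pow_mul]
  exact h2

/-- `C_G(U₁ ∩ U₂) = B` if `e = 2`. -/
theorem centralizer_inf [Finite G] (h : Dat 2 B U₁ U₂) :
    centralizer ((U₁ ⊓ U₂ : Subgroup G) : Set G) = B := by
  obtain ⟨c₁, c₂, h1, h2, h3⟩ := h.c rfl
  have hc₁ : c₁ ∈ U₂ := by
    apply h.cross.cent₂
    rw [mem_centralizer_iff]
    exact fun u hu => h1.comm u (h.cross.norm₁ (h.cross.le₂ hu))
  have hc₂ : c₂ ∈ U₁ := by
    apply h.cross.cent₁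
    rw [mem_centralizer_iff]
    exact fun u hu => h2.comm u (h.cross.norm₂ (h.cross.le₁ hu))
  -- the centralizer of `c₁` is `N_G(U₁)`
  have key : ∀ {U : Subgroup G} {c : G}, Good48 U c → IsMaximalTwoLocal (normalizer (U : Set G)) →
      ∀ x : G, x * c = c * x → x ∈ normalizer (U : Set G) := by
    intro U c hU hmax x hx
    have h5 : IsTwoLocal (normalizer ((zpowers c : Subgroup G) : Set G)) := by
      refine ⟨zpowers c, hU.isPGroup.to_le (by rw [zpowers_le]; exact hU.mem), ?_, rfl⟩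
      rw [Ne, zpowers_eq_bot]
      exact hU.ne_one
    have h6 := hmax.2 _ h5 (by
      intro y hy
      exact centralizer_le_normalizer _ (FinalBridge.mem_centralizer_zpowers (hU.comm y hy)))
    rw [← h6]
    exact centralizer_le_normalizer _ (FinalBridge.mem_centralizer_zpowers hx)
  apply le_antisymm
  · intro x hx
    rw [mem_centralizer_iff] at hx
    rw [← h.inf_normalizer]
    exact mem_inf.2 ⟨key h1 h.max₁ x (hx c₁ (mem_inf.2 ⟨h1.mem, hc₁⟩)).symm,
      key h2 h.max₂ x (hx c₂ (mem_inf.2 ⟨hc₂, h2.mem⟩)).symm⟩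
  · rw [← h.cross.zc_eq]
    intro x hx
    rw [mem_centralizer_iff]
    exact fun y hy => ((mem_zc.1 hy).2.2 x hx).symm

/-- `N_G(U₁ ∩ U₂) ≤ N_G(B)` if `e = 2`. -/
theorem normalizer_inf_le [Finite G] (h : Dat 2 B U₁ U₂) :
    normalizer ((U₁ ⊓ U₂ : Subgroup G) : Set G) ≤ normalizer (B : Set G) := by
  have := normalizer_le_normalizer_centralizer (U₁ ⊓ U₂)
  rwa [h.centralizer_inf] at this

end Dat

end Cfsg.Agent.H252.ZNData
end

-- part: H252/ZNOne
section
/-!
# ZN-groups, case `e = 1`: Sylow 2-subgroups with a self-centralizing four-group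
-/

set_option autoImplicit false

namespace Cfsg.Agent.H252.ZNOne

open Subgroup Cfsg Cfsg.Agent.ZN Cfsg.Agent.ZN.ChoiceBase Cfsg.Agent.ZN.ChoiceSit
open Cfsg.Agent.Classification.ZNEndA Cfsg.Agent.Classification.ZNEndB
open Cfsg.Agent.H252.ZNCross Cfsg.Agent.H252.ZNData

universe u

/-- In a cyclic group, elements of square one in a subgroup... two involutions are equal. -/
theorem eq_of_cyclic {P : Type*} [Group P] [Finite P] {C : Subgroup P} (hC : IsCyclic C) {x y : P}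
    (hx : x ∈ C) (hy : y ∈ C) (hx1 : x ≠ 1) (hy1 : y ≠ 1) (hx2 : x * x = 1) (hy2 : y * y = 1) :
    x = y := by
  classical
  obtain ⟨g, hg⟩ := hC.exists_generator
  have : Fintype C := Fintype.ofFinite C
  have h1 := IsCyclic.card_pow_eq_one_le (α := C) (n := 2) (by norm_num)
  by_contra hne
  have h3 : ({1, ⟨x, hx⟩, ⟨y, hy⟩} : Finset C) ⊆ Finset.univ.filter fun a : C => a ^ 2 = 1 := by
    intro a ha
    simp only [Finset.mem_insert, Finset.mem_singleton] at ha
    simp only [Finset.mem_filter, Finset.mem_univ, true_and]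
    rcases ha with rfl | rfl | rfl
    · simp
    · exact Subtype.ext (by simpa [pow_two] using hx2)
    · exact Subtype.ext (by simpa [pow_two] using hy2)
  have h4 : ({1, ⟨x, hx⟩, ⟨y, hy⟩} : Finset C).card = 3 := by
    rw [Finset.card_insert_of_notMem, Finset.card_insert_of_notMem, Finset.card_singleton]
    · simp only [Finset.mem_singleton, Subtype.mk.injEq]
      exact hne
    · simp only [Finset.mem_insert, Finset.mem_singleton, not_or]
      exact ⟨fun h => hx1 (congrArg Subtype.val h).symm, fun h => hy1 (congrArg Subtype.val h).symm⟩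
  have h5 := Finset.card_le_card h3
  rw [h4] at h5
  omega

/-- 2-groups with a self-centralizing four-subgroup. -/
theorem two_group {P : Type*} [Group P] [Finite P] (n : ℕ) (hn : 3 ≤ n) (hP : Nat.card P = 2 ^ n)
    (A : Subgroup P) (hA : Nat.card A = 4)
    (hC : centralizer (A : Set P) ≤ A) (hE : ∀ a ∈ A, a * a = 1) :
    ∃ z : P, z ≠ 1 ∧ z * z = 1 ∧ (∀ x : P, (∀ y, y * x = x * y) ↔ (x = 1 ∨ x = z)) ∧
      (∀ V : Subgroup P, Nat.card V = 4 → (∀ a ∈ V, a * a = 1) → z ∈ V →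
        centralizer (V : Set P) ≤ V) ∧
      ∀ V : Subgroup P, (∀ a ∈ V, a * a = 1) → Nat.card V ≤ 4 := by
  classical
  have f2 : Fact (Nat.Prime 2) := ⟨Nat.prime_two⟩
  have hCA : centralizer (A : Set P) = A := le_antisymm hC (le_centralizer_of_elem hE)
  have hcl := Cfsg.Agent.S0112.result (p := 2) n hP A (by rw [hA]; norm_num) hCA
  obtain ⟨C, hCcyc, hCi⟩ := Cfsg.Agent.S0113.result n hn hP hcl
  have hPg : IsPGroup 2 P := IsPGroup.of_card hP
  have hPnt : Nontrivial P := by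
    rw [← Finite.one_lt_card_iff_nontrivial, hP]
    exact Nat.one_lt_two_pow (by omega)
  -- the centre
  have hzA : center P ≤ A := by
    rw [← hCA]
    exact center_le_centralizer _
  have hzne : center P ≠ A := by
    intro h
    have h1 : (⊤ : Subgroup P) ≤ A := by
      rw [← hCA, ← h]
      intro x _
      rw [mem_centralizer_iff]
      exact fun y hy => ((mem_center_iff.1 hy) x).symm
    have h2 := Subgroup.card_le_of_le h1
    rw [hA, Subgroup.card_top, hP] at h2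
    have : 2 ^ 3 ≤ 2 ^ n := Nat.pow_le_pow_right (by norm_num) hn
    omega
  have hznt : Nontrivial (center P) := hPg.center_nontrivial
  have hcz : Nat.card (center P) = 2 := by
    have h1 : Nat.card (center P) ∣ 4 := by rw [← hA]; exact Subgroup.card_dvd_of_le hzA
    have h2 : Nat.card (center P) ≠ 4 := fun h =>
      hzne (Subgroup.eq_of_le_of_card_ge hzA (by rw [h, hA]))
    have h3 : 1 < Nat.card (center P) := Finite.one_lt_card
    have h4 : Nat.card (center P) ≤ 4 := Nat.le_of_dvd (by norm_num) h1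
    have h5 : Nat.card (center P) ≠ 3 := by
      intro h; rw [h] at h1; norm_num at h1
    omega
  obtain ⟨z, hz, hz1⟩ := (center P).bot_or_exists_ne_one.resolve_left
    ((Subgroup.nontrivial_iff_ne_bot _).1 hznt)
  have hzz : z * z = 1 := hE z (hzA hz)
  have hcen : ∀ x : P, (∀ y, y * x = x * y) ↔ (x = 1 ∨ x = z) := by
    intro x
    rw [← mem_center_iff]
    constructor
    · intro hx
      by_contra hcon
      push Not at hcon
      have h3 : ({1, ⟨z, hz⟩, ⟨x, hx⟩} : Finset (center P)).card = 3 := by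
        rw [Finset.card_insert_of_notMem, Finset.card_insert_of_notMem, Finset.card_singleton]
        · simp only [Finset.mem_singleton, Subtype.mk.injEq]
          exact hcon.2.symm
        · simp only [Finset.mem_insert, Finset.mem_singleton, not_or]
          exact ⟨fun h => hz1 (congrArg Subtype.val h).symm,
            fun h => hcon.1 (congrArg Subtype.val h).symm⟩
      have : Fintype (center P) := Fintype.ofFinite _
      have h4 := Finset.card_le_univ ({1, ⟨z, hz⟩, ⟨x, hx⟩} : Finset (center P))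
      rw [h3, ← Nat.card_eq_fintype_card, hcz] at h4
      omega
    · rintro (rfl | rfl)
      · exact one_mem _
      · exact hz
  have hidx : ∀ {a b : P}, a ∉ C → b ∉ C → a * b ∈ C := by
    intro a b ha hb
    rw [mul_mem_iff_of_index_two hCi]
    exact ⟨fun h => absurd h ha, fun h => absurd h hb⟩
  have hCcomm : ∀ a ∈ C, ∀ b ∈ C, a * b = b * a := by
    intro a ha b hb
    have hc : IsMulCommutative C := IsCyclic.isMulCommutative
    exact congrArg Subtype.val (hc.is_comm.comm ⟨a, ha⟩ ⟨b, hb⟩)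
  -- `z` lies in `C`
  have hzC : z ∈ C := by
    have hcardC : Nat.card C * 2 = 2 ^ n := by
      have := C.card_mul_index
      rwa [hCi, hP] at this
    have h2 : 2 ∣ Nat.card C := by
      have h3 : 2 ^ n = 2 ^ (n - 1) * 2 := by
        rw [← pow_succ]; congr 1; omega
      have h4 : Nat.card C = 2 ^ (n - 1) := by omega
      rw [h4]
      exact dvd_pow_self 2 (by omega)
    obtain ⟨c, hc⟩ := exists_prime_orderOf_dvd_card' 2 h2
    have hcG : orderOf (c : P) = 2 := by rw [← hc]; exact Subgroup.orderOf_coe c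
    have hc1 : (c : P) ≠ 1 := by
      intro h; rw [h, orderOf_one] at hcG; omega
    have hcc : (c : P) * c = 1 := by
      rw [← pow_two, ← hcG]; exact pow_orderOf_eq_one _
    have hn' : C.Normal := Subgroup.normal_of_index_eq_two hCi
    have h5 : ∀ y, y * (c : P) = (c : P) * y := by
      intro y
      have h6 : y * (c : P) * y⁻¹ ∈ C := hn'.conj_mem _ c.2 y
      have h7 : y * (c : P) * y⁻¹ = c := by
        apply eq_of_cyclic hCcyc h6 c.2 _ hc1 _ hcc
        · intro h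
          apply hc1
          have : (c : P) = y⁻¹ * (y * (c : P) * y⁻¹) * y := by group
          rw [this, h]; group
        · have : y * (c : P) * y⁻¹ * (y * (c : P) * y⁻¹) = y * ((c : P) * c) * y⁻¹ := by group
          rw [this, hcc]; group
      exact mul_inv_eq_iff_eq_mul.1 h7
    rcases (hcen c).1 h5 with h | h
    · exact absurd h hc1
    · rw [← h]; exact c.2
  -- elementary abelian subgroups meet `C` in a subgroup of order at most two
  have hVC : ∀ V : Subgroup P, (∀ a ∈ V, a * a = 1) → Nat.card V ≤ 4 := by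
    intro V hV
    have h1 : Nat.card ↥(V ⊓ C) ≤ 2 := by
      by_contra hcon
      push Not at hcon
      have : Fintype ↥(V ⊓ C) := Fintype.ofFinite _
      rw [Nat.card_eq_fintype_card, Fintype.two_lt_card_iff] at hcon
      obtain ⟨a, b, c, hab, hac, hbc⟩ := hcon
      have key : ∀ x : ↥(V ⊓ C), ∀ y : ↥(V ⊓ C), x ≠ 1 → y ≠ 1 → x = y := by
        intro x y hx hy
        apply Subtype.ext
        exact eq_of_cyclic hCcyc (mem_inf.1 x.2).2 (mem_inf.1 y.2).2
          (fun h => hx (Subtype.ext h)) (fun h => hy (Subtype.ext h))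
          (hV _ (mem_inf.1 x.2).1) (hV _ (mem_inf.1 y.2).1)
      by_cases ha : a = 1
      · exact hbc (key b c (fun h => hab (ha.trans h.symm)) (fun h => hac (ha.trans h.symm)))
      · by_cases hb : b = 1
        · exact hac (key a c ha (fun h => hbc (hb.trans h.symm)))
        · exact hab (key a b ha hb)
    have h2 : (V ⊓ C).relIndex V ≤ 2 := by
      rw [inf_relIndex_left]
      calc C.relIndex V ≤ C.relIndex ⊤ := relIndex_le_of_le_right le_top
            (by rw [relIndex_top_right, hCi]; norm_num)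
        _ = 2 := by rw [relIndex_top_right, hCi]
    have h3 := card_mul_relIndex (inf_le_left : V ⊓ C ≤ V)
    calc Nat.card V = Nat.card ↥(V ⊓ C) * (V ⊓ C).relIndex V := h3.symm
      _ ≤ 2 * 2 := Nat.mul_le_mul h1 h2
      _ = 4 := by norm_num
  refine ⟨z, hz1, hzz, hcen, ?_, hVC⟩
  intro V hV hVE hzV x hx
  rw [mem_centralizer_iff] at hx
  -- an element of `V` outside `C`
  obtain ⟨v, hv, hvC⟩ : ∃ v ∈ V, v ∉ C := by
    by_contra hcon
    push Not at hcon
    have h1 : V ≤ zpowers z := by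
      intro v hv
      by_cases hv1 : v = 1
      · rw [hv1]; exact one_mem _
      · rw [eq_of_cyclic hCcyc (hcon v hv) hzC hv1 hz1 (hVE v hv) hzz]
        exact mem_zpowers z
    have h2 := Subgroup.card_le_of_le h1
    rw [hV, Nat.card_zpowers] at h2
    have h3 : orderOf z ≤ 2 := orderOf_le_of_pow_eq_one (by norm_num) (by rw [pow_two]; exact hzz)
    omega
  -- an element of `C` commuting with `v` is central
  have key : ∀ y ∈ C, v * y = y * v → y = 1 ∨ y = z := by
    intro y hy hvy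
    rw [← hcen]
    intro g
    by_cases hg : g ∈ C
    · exact hCcomm g hg y hy
    · have h1 : g * v⁻¹ ∈ C := hidx hg (fun h => hvC (inv_mem_iff.1 h))
      have h2 := hCcomm _ h1 y hy
      calc g * y = g * v⁻¹ * (v * y) := by group
        _ = g * v⁻¹ * y * v := by rw [hvy]; group
        _ = y * (g * v⁻¹) * v := by rw [h2]
        _ = y * g := by group
  by_cases hxC : x ∈ C
  · rcases key x hxC (hx v hv) with h | h
    · rw [h]; exact one_mem _
    · rw [h]; exact hzV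
  · have h1 : x * v ∈ C := hidx hxC hvC
    have h2 : v * (x * v) = x * v * v := by rw [← mul_assoc, hx v hv]
    have h3 : x * v ∈ V := by
      rcases key _ h1 h2 with h | h
      · rw [h]; exact one_mem _
      · rw [h]; exact hzV
    have h4 : x = x * v * v⁻¹ := by group
    rw [h4]
    exact mul_mem h3 (inv_mem hv)

variable {G : Type u} [Group G]

theorem good24_cj {U : Subgroup G} (h : Good24 U) (g : G) : Good24 (cj g U) where
  card := by rw [card_cj]; exact h.card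
  elem := fun a ha => by
    have h1 := h.elem _ (mem_cj.1 ha)
    have h2 : a * a = g * (g⁻¹ * a * g * (g⁻¹ * a * g)) * g⁻¹ := by group
    rw [h2, h1]; group
  cent := by
    rw [← cj_centralizer]
    exact cj_mono g h.cent
  norm := by
    rw [← cj_normalizer, card_cj]
    exact h.norm

theorem smul_coe (g : G) (S : Sylow 2 G) : ((g • S : Sylow 2 G) : Subgroup G) = cj g (S : Subgroup G) :=
  rfl

/-- The Sylow 2-subgroups in case `e = 1`. -/
theorem sylow_facts [Finite G] {E : Subgroup G} (hE : Good24 E) (S : Sylow 2 G) :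
    8 ≤ Nat.card (S : Subgroup G) ∧ Nat.card (zc (S : Subgroup G)) = 2 ∧
      (∀ V : Subgroup G, V ≤ (S : Subgroup G) → Nat.card V = 4 → (∀ a ∈ V, a * a = 1) →
        zc (S : Subgroup G) ≤ V → (S : Subgroup G) ⊓ centralizer (V : Set G) ≤ V) ∧
      ∀ V : Subgroup G, V ≤ (S : Subgroup G) → (∀ a ∈ V, a * a = 1) → Nat.card V ≤ 4 := by
  have f2 : Fact (Nat.Prime 2) := ⟨Nat.prime_two⟩
  -- conjugate `E` into `S`
  obtain ⟨S', hS'⟩ := hE.isPGroup.exists_le_sylow
  obtain ⟨g, hg⟩ := MulAction.exists_smul_eq G S' S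
  have hES : cj g E ≤ (S : Subgroup G) := by
    rw [← hg, smul_coe]
    exact cj_mono g hS'
  have hE' := good24_cj hE g
  obtain ⟨n, hn⟩ := S.isPGroup'.exists_card_eq
  have h8 : 8 ∣ Nat.card (S : Subgroup G) := by
    have h1 : 2 ^ 3 ∣ Nat.card G := by
      have h2 : Nat.card (normalizer (E : Set G)) ∣ Nat.card G := Subgroup.card_subgroup_dvd_card _
      rw [hE.norm] at h2
      exact dvd_trans (by norm_num) h2
    have := S.pow_dvd_card_of_pow_dvd_card h1
    simpa using this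
  have h8le : 8 ≤ Nat.card (S : Subgroup G) := Nat.le_of_dvd Nat.card_pos h8
  have hn3 : 3 ≤ n := by
    by_contra h
    have h1 : n ≤ 2 := by omega
    have h2 : 2 ^ n ≤ 2 ^ 2 := Nat.pow_le_pow_right (by norm_num) h1
    rw [hn] at h8le
    omega
  have hcardA : ∀ V : Subgroup G, V ≤ (S : Subgroup G) →
      Nat.card (V.subgroupOf (S : Subgroup G)) = Nat.card V :=
    fun V hV => Nat.card_congr (Subgroup.subgroupOfEquivOfLe hV).toEquiv
  obtain ⟨z, hz1, hzz, hcen, hV4, hVle⟩ := two_group (P := (S : Subgroup G)) n hn3 hn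
    ((cj g E).subgroupOf (S : Subgroup G)) (by rw [hcardA _ hES]; exact hE'.card)
    (by
      intro x hx
      rw [mem_subgroupOf]
      apply hE'.cent
      rw [mem_centralizer_iff] at hx ⊢
      intro y hy
      exact congrArg Subtype.val (hx ⟨y, hES hy⟩ (mem_subgroupOf.2 hy)))
    (fun a ha => Subtype.ext (hE'.elem _ (mem_subgroupOf.1 ha)))
  have hz1' : (z : G) ≠ 1 := fun h => hz1 (Subtype.ext h)
  have hzc : zc (S : Subgroup G) = zpowers (z : G) := by
    ext x
    rw [mem_zc]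
    constructor
    · rintro ⟨hx, -, h3⟩
      rcases (hcen ⟨x, hx⟩).1 (fun y => Subtype.ext (h3 y y.2)) with h | h
      · have : x = 1 := congrArg Subtype.val h
        rw [this]; exact one_mem _
      · have : x = z := congrArg Subtype.val h
        rw [this]; exact mem_zpowers _
    · intro hx
      have hx' : x = 1 ∨ x = z := by
        have h3 : ∀ k : ℤ, (z : G) ^ k = 1 ∨ (z : G) ^ k = z := by
          have hzz' : (z : G) * z = 1 := congrArg Subtype.val hzz
          intro k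
          rcases Int.even_or_odd' k with ⟨m, rfl | rfl⟩
          · left
            rw [zpow_mul]
            have : (z : G) ^ (2 : ℤ) = 1 := by rw [zpow_two]; exact hzz'
            rw [this, one_zpow]
          · right
            rw [zpow_add, zpow_mul]
            have : (z : G) ^ (2 : ℤ) = 1 := by rw [zpow_two]; exact hzz'
            rw [this, one_zpow, one_mul, zpow_one]
        obtain ⟨k, rfl⟩ := mem_zpowers_iff.1 hx
        exact h3 k
      rcases hx' with rfl | rfl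
      · exact ⟨one_mem _, one_pow 2, fun y _ => by rw [mul_one, one_mul]⟩
      · refine ⟨z.2, by rw [pow_two]; exact congrArg Subtype.val hzz, fun y hy => ?_⟩
        exact congrArg Subtype.val ((hcen z).2 (Or.inr rfl) ⟨y, hy⟩)
  have hzord : orderOf (z : G) = 2 :=
    orderOf_eq_prime (by rw [pow_two]; exact congrArg Subtype.val hzz) hz1'
  refine ⟨h8le, by rw [hzc, Nat.card_zpowers, hzord], ?_, ?_⟩
  · intro V hVS hV hVE hzV x hx
    obtain ⟨hxS, hxV⟩ := mem_inf.1 hx
    have h1 := hV4 (V.subgroupOf (S : Subgroup G)) (by rw [hcardA _ hVS]; exact hV)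
      (fun a ha => Subtype.ext (hVE _ (mem_subgroupOf.1 ha)))
      (mem_subgroupOf.2 (hzV (by rw [hzc]; exact mem_zpowers _)))
    have h2 : (⟨x, hxS⟩ : (S : Subgroup G)) ∈
        centralizer ((V.subgroupOf (S : Subgroup G) : Subgroup (S : Subgroup G)) : Set _) := by
      rw [mem_centralizer_iff]
      intro y hy
      exact Subtype.ext ((mem_centralizer_iff.1 hxV) y (mem_subgroupOf.1 hy))
    exact mem_subgroupOf.1 (h1 h2)
  · intro V hVS hVE
    rw [← hcardA V hVS]
    exact hVle _ fun a ha => Subtype.ext (hVE _ (mem_subgroupOf.1 ha))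

end Cfsg.Agent.H252.ZNOne
end

-- part: H252/ZNStruct
section
/-!
# ZN-groups: structure of the maximal straddling 2-subgroups

**Main theorem** `exists_ts`. Let `G` be a finite group of characteristic 2 type in which every 2-local subgroup is
solvable and `C_G(Ω₁Z(S)) ≤ N_G(S)` for the Sylow 2-subgroups `S`, `O₂(G) = 1`, `M` a 2-local subgroup containing
`N_G(J(S))` and `T ∈ maxStraddlingTwoSubgroups M`. Then `T = U₁U₂`, `Uᵢ` self-centralizing elementary abelian of order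
`4e` (`e = 1, 2`), `|T| = 8e`, `|N_G(Uᵢ)| = 24e`, the `N_G(Uᵢ)` are maximal 2-local, and they are the only 2-local
subgroups containing `T` and not contained in `M` (apart from one of them possibly lying in `M`).
-/

set_option autoImplicit false

namespace Cfsg.Agent.H252.ZNStruct

open Subgroup Cfsg Cfsg.Agent.ZN Cfsg.Agent.ZN.ChoiceBase Cfsg.Agent.ZN.ChoiceSit
open Cfsg.Agent.Classification.ZNEndA Cfsg.Agent.Classification.ZNEndB
open Cfsg.Agent.H252.ZNCross Cfsg.Agent.H252.ZNData Cfsg.Agent.H252.ZNStar Cfsg.Agent.H252.ZNOne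

universe u

variable {G : Type u} [Group G]

/-- The structure of a maximal straddling 2-subgroup `T` of `M`. -/
structure TS (e : ℕ) (M T U₁ U₂ : Subgroup G) : Prop where
  dat : Dat e T U₁ U₂
  all : ∀ X : Subgroup G, IsTwoLocal X → T ≤ X → ¬ X ≤ M →
    X = normalizer (U₁ : Set G) ∨ X = normalizer (U₂ : Set G)

theorem TS.symm {e : ℕ} {M T U₁ U₂ : Subgroup G} (h : TS e M T U₁ U₂) : TS e M T U₂ U₁ :=
  ⟨h.dat.symm, fun X h1 h2 h3 => (h.all X h1 h2 h3).symm⟩

theorem elem_zc (B : Subgroup G) : ∀ a ∈ zc B, a * a = 1 := fun a ha => by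
  rw [← pow_two]; exact (mem_zc.1 ha).2.1

theorem two_le_card [Finite G] {U : Subgroup G} (hU : IsPGroup 2 U) (hU1 : U ≠ ⊥) :
    2 ≤ Nat.card U :=
  Nat.le_of_dvd Nat.card_pos (ZNCtx.two_dvd_card hU hU1)

/-! ### `e = 1` -/

section One

variable [Finite G] (hL : IsCharacteristicTwoType G)
  (hZ : ∀ S : Sylow 2 G, centralizer (zc (S : Subgroup G) : Set G) ≤
      normalizer ((S : Subgroup G) : Set G))

include hL hZ

theorem key_one {M T E : Subgroup G} (hE : Good24 E)
    (hTJ : normalizer ((jj T : Subgroup G) : Set G) ≤ M)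
    (hT : T ∈ maxStraddlingTwoSubgroups M) (S' : Sylow 2 G) (hTS : T ≤ (S' : Subgroup G))
    {X : Subgroup G} (hX : IsTwoLocal X) (hTX : T ≤ X) (hXM : ¬ X ≤ M) :
    Good24 (o2 X) ∧ o2 X ≤ T ∧ X = normalizer ((o2 X : Subgroup G) : Set G) ∧ Nat.card T = 8 ∧
      normalizer ((o2 X : Subgroup G) : Set G) ⊓ (S' : Subgroup G) = T := by
  have f2 : Fact (Nat.Prime 2) := ⟨Nat.prime_two⟩
  obtain ⟨hTp, hT1, hTM, -⟩ := hT.1
  obtain ⟨hS8, hzS, hself, hrank⟩ := sylow_facts hE S'
  have hsyl : Syl T X := syl_of_not_le hTJ hT hX hTX hXM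
  have hlt : zc T < zc (o2 X) := zc_lt hL hZ hTJ hX hsyl hXM
  have hoT : o2 X ≤ T := o2_le_syl hsyl
  have hVo : zc (o2 X) ≤ o2 X := ChoiceSit.zc_le _
  have hVS : zc (o2 X) ≤ (S' : Subgroup G) := hVo.trans (hoT.trans hTS)
  have hVE := elem_zc (o2 X)
  have hV4 : Nat.card (zc (o2 X)) = 4 := by
    have h1 := hrank _ hVS hVE
    have h2 : 2 ≤ Nat.card (zc T) :=
      two_le_card (hTp.to_le (ChoiceSit.zc_le T)) (zc_ne_bot hTp hT1)
    have h3 : Nat.card (zc T) < Nat.card (zc (o2 X)) := by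
      refine lt_of_le_of_ne (Subgroup.card_le_of_le hlt.le) fun h => hlt.ne ?_
      exact Subgroup.eq_of_le_of_card_ge hlt.le h.ge
    have h4 : Nat.card (zc (o2 X)) ≠ 3 := by
      intro h5
      obtain ⟨n, hn⟩ := (isPGroup_of_elem hVE).exists_card_eq
      rw [h5] at hn
      have h6 : 2 ∣ 3 := by
        rw [hn]
        apply dvd_pow_self
        rintro rfl
        norm_num at hn
      norm_num at h6
    omega
  have hzSV : zc (S' : Subgroup G) ≤ zc (o2 X) := by
    refine le_trans ?_ hlt.le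
    intro x hx
    have hx' := mem_zc.1 hx
    exact mem_zc.2 ⟨zc_le_syl hL hX hsyl hTS hx, hx'.2.1, fun y hy => hx'.2.2 y (hTS hy)⟩
  have ho : o2 X = zc (o2 X) := by
    apply le_antisymm ?_ hVo
    refine le_trans (le_inf (hoT.trans hTS) ?_) (hself _ hVS hV4 hVE hzSV)
    intro x hx
    rw [mem_centralizer_iff]
    exact fun y hy => ((mem_zc.1 hy).2.2 x hx).symm
  have hVE' : ∀ a ∈ o2 X, a * a = 1 := by
    intro a ha
    rw [ho] at ha
    exact hVE a ha
  have hV4' : Nat.card (o2 X) = 4 := by rw [ho]; exact hV4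
  have hcent : centralizer ((o2 X : Subgroup G) : Set G) ≤ o2 X := centralizer_o2_le hL hX
  have hne : o2 X ≠ ⊥ := by
    intro h0
    rw [h0, Subgroup.card_bot] at hV4'
    norm_num at hV4'
  have hXN : X ≤ normalizer ((o2 X : Subgroup G) : Set G) := ChoiceSit.le_normalizer_o2 X
  have hNM : ¬ normalizer ((o2 X : Subgroup G) : Set G) ≤ M := fun h => hXM (hXN.trans h)
  have hN2 : IsTwoLocal (normalizer ((o2 X : Subgroup G) : Set G)) :=
    ⟨o2 X, isPGroup_of_elem hVE', hne, rfl⟩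
  have hsylN : Syl T (normalizer ((o2 X : Subgroup G) : Set G)) :=
    syl_of_not_le hTJ hT hN2 (hTX.trans hXN) hNM
  have hle24 : Nat.card (normalizer ((o2 X : Subgroup G) : Set G)) ≤ 24 := by
    have := FinalBridge.card_le_of_acts (X := normalizer ((o2 X : Subgroup G) : Set G))
      (V := o2 X) (U := o2 X) hV4' (fun x hx v hv => ((mem_normalizer_iff.1 hx) v).1 hv)
      (fun x _ hv => hcent (mem_centralizer_iff.2 fun v hv' => (hv v hv').symm))
    rw [hV4'] at this
    exact this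
  have hNS : normalizer ((o2 X : Subgroup G) : Set G) ⊓ (S' : Subgroup G) = T :=
    hsylN.2.2 _ inf_le_left (S'.isPGroup'.to_le inf_le_right) (le_inf hsylN.1 hTS)
  have hVT : ¬ T ≤ o2 X := by
    intro h
    have h1 : o2 X = (S' : Subgroup G) := by
      apply ChoiceNse.eq_of_normalizer_inf_le S'.isPGroup' (hoT.trans hTS)
      rw [hNS]; exact h
    rw [← h1, hV4'] at hS8
    norm_num at hS8
  have hT8 : 8 ≤ Nat.card T := by
    have h1 := card_mul_relIndex hoT
    rw [hV4'] at h1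
    have h2 : (o2 X).relIndex T ≠ 1 := by rw [Ne, relIndex_eq_one]; exact hVT
    have h3 : (o2 X).relIndex T ≠ 0 := index_ne_zero_of_finite (H := (o2 X).subgroupOf T)
    omega
  have hXT : ¬ X ≤ T := fun h => hXM (h.trans hTM)
  have hX24 : 24 ≤ Nat.card X ∧ Nat.card T * 3 ≤ Nat.card X := by
    have h1 := card_mul_relIndex hTX
    have h2 : T.relIndex X ≠ 1 := by rw [Ne, relIndex_eq_one]; exact hXT
    have h3 : T.relIndex X ≠ 0 := index_ne_zero_of_finite (H := T.subgroupOf X)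
    have h4 := syl_not_dvd hsyl
    have h5 : 3 ≤ T.relIndex X := by omega
    constructor
    · calc 24 = 8 * 3 := by norm_num
        _ ≤ Nat.card T * T.relIndex X := Nat.mul_le_mul hT8 h5
        _ = Nat.card X := h1
    · calc Nat.card T * 3 ≤ Nat.card T * T.relIndex X := Nat.mul_le_mul_left _ h5
        _ = Nat.card X := h1
  have hXcard := Subgroup.card_le_of_le hXN
  have hN24 : Nat.card (normalizer ((o2 X : Subgroup G) : Set G)) = 24 := by omega
  exact ⟨⟨hV4', hVE', hcent, hN24⟩, hoT, Subgroup.eq_of_le_of_card_ge hXN (by omega), by omega, hNS⟩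

theorem one {M T B E₁ E₂ : Subgroup G} (hD : Dat 1 B E₁ E₂)
    (hTJ : normalizer ((jj T : Subgroup G) : Set G) ≤ M)
    (hT : T ∈ maxStraddlingTwoSubgroups M) :
    ∃ V₁ V₂ : Subgroup G, TS 1 M T V₁ V₂ := by
  have f2 : Fact (Nat.Prime 2) := ⟨Nat.prime_two⟩
  obtain ⟨hTp, hT1, hTM, X₀, hX₀, hTX₀, hX₀M⟩ := hT.1
  obtain ⟨S', hTS⟩ := hTp.exists_le_sylow
  have key : ∀ X : Subgroup G, IsTwoLocal X → T ≤ X → ¬ X ≤ M →
      Good24 (o2 X) ∧ o2 X ≤ T ∧ X = normalizer ((o2 X : Subgroup G) : Set G) ∧ Nat.card T = 8 ∧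
      normalizer ((o2 X : Subgroup G) : Set G) ⊓ (S' : Subgroup G) = T :=
    fun X h1 h2 h3 => key_one hL hZ hD.good24 hTJ hT S' hTS h1 h2 h3
  obtain ⟨hV, hVT, hXV, hT8, hNS⟩ := key X₀ hX₀ hTX₀ hX₀M
  obtain ⟨V, hVdef⟩ : ∃ V, V = o2 X₀ := ⟨_, rfl⟩
  rw [← hVdef] at hV hVT hXV hNS
  -- the second four-group
  obtain ⟨V', hV', hVT', hne⟩ : ∃ V' : Subgroup G, Good24 V' ∧ V' ≤ T ∧ V ≠ V' := by
    by_cases hTS' : T = (S' : Subgroup G)
    · obtain ⟨S'', hS''⟩ := hD.cross.two.exists_le_sylow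
      obtain ⟨g, hg⟩ := MulAction.exists_smul_eq G S'' S'
      have h1 : cj g (S'' : Subgroup G) = (S' : Subgroup G) := by rw [← hg]; rfl
      have h2 : B = (S'' : Subgroup G) := by
        apply Subgroup.eq_of_le_of_card_ge hS''
        rw [← card_cj g (S'' : Subgroup G), h1, ← hTS', hT8, hD.cross.cardT]
      have h3 : cj g B = T := by rw [h2, h1, ← hTS']
      have h4 := hD.cj g
      by_cases h5 : V = cj g E₁
      · refine ⟨cj g E₂, h4.good24', h3 ▸ h4.cross.le₂, ?_⟩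
        rw [h5]; exact h4.cross.ne
      · exact ⟨cj g E₁, h4.good24, h3 ▸ h4.cross.le₁, h5⟩
    · obtain ⟨x, hx1, hx2, hx3⟩ := CaseTwo.exists_normalizing S'.isPGroup' hTS hTS'
      refine ⟨cj x V, good24_cj hV x, ?_, ?_⟩
      · calc cj x V ≤ cj x T := cj_mono x hVT
          _ = T := cj_eq_of_mem_normalizer hx3
      · intro h
        apply hx2
        rw [← hNS]
        exact mem_inf.2 ⟨mem_normalizer_iff_cj.2 h.symm, hx1⟩
  have hcross : Cross 1 T V V' :=
    ⟨by norm_num, hTp, by rw [hT8], hVT, hVT', hne, hV.card, hV'.card, hV.elem, hV'.elem, hV.cent,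
      hV'.cent⟩
  refine ⟨V, V', ⟨⟨Or.inl rfl, hcross, hV.norm, hV'.norm, hV.isMaximalTwoLocal,
    hV'.isMaximalTwoLocal, fun h => by norm_num at h⟩, ?_⟩⟩
  intro X hX hTX hXM
  obtain ⟨h1, h2, h3, -, -⟩ := key X hX hTX hXM
  rcases hcross.eq_or_of_card h2 h1.elem (by rw [h1.card]) with h4 | h4
  · left; rw [h3, h4]
  · right; rw [h3, h4]

end One

/-! ### `e = 2` -/

section Two

variable [Finite G]

/-- The Sylow 2-subgroups containing `B` in case `e = 2`. -/
theorem two_sylow {B U₁ U₂ : Subgroup G} (h : Dat 2 B U₁ U₂) (S : Sylow 2 G)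
    (hB : B ≤ (S : Subgroup G)) :
    jj (S : Subgroup G) = B ∧ normalizer (B : Set G) = (S : Subgroup G) := by
  have f2 : Fact (Nat.Prime 2) := ⟨Nat.prime_two⟩
  obtain ⟨S₂, hS₂⟩ : ∃ S₂ : Subgroup G, S₂ = normalizer (B : Set G) ⊓ (S : Subgroup G) := ⟨_, rfl⟩
  have hBS₂ : B ≤ S₂ := by rw [hS₂]; exact le_inf le_normalizer hB
  have hS₂N : S₂ ≤ normalizer (B : Set G) := by rw [hS₂]; exact inf_le_left
  have hS₂S : S₂ ≤ (S : Subgroup G) := by rw [hS₂]; exact inf_le_right
  -- large elementary abelian subgroups of `S₂` lie in `B`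
  have key : ∀ W : Subgroup G, W ≤ S₂ → (∀ a ∈ W, a * a = 1) → 8 ≤ Nat.card W → W ≤ B := by
    intro W hWS hWE hW8
    by_contra hcon
    obtain ⟨w, hw, hwB⟩ := Set.not_subset.1 hcon
    have hwN : w ∈ normalizer (B : Set G) := hS₂N (hWS hw)
    obtain ⟨hsw1, hsw2⟩ := h.swap_of_not_mem hwN hwB
    have hcommW : ∀ y ∈ W, w * y * w⁻¹ = y := by
      intro y hy
      rw [comm_of_elem hWE hw hy]; group
    have h1 : W ⊓ B ≤ U₁ ⊓ U₂ := by
      intro y hy
      obtain ⟨hyW, hyB⟩ := mem_inf.1 hy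
      rcases h.cross.mem_or_of_sq hyB (hWE y hyW) with h2 | h2
      · refine mem_inf.2 ⟨h2, ?_⟩
        have h3 : w * y * w⁻¹ ∈ ChoiceBase.cj w U₁ := ⟨y, h2, rfl⟩
        rwa [hsw1, hcommW y hyW] at h3
      · refine mem_inf.2 ⟨?_, h2⟩
        have h3 : w * y * w⁻¹ ∈ ChoiceBase.cj w U₂ := ⟨y, h2, rfl⟩
        rwa [hsw2, hcommW y hyW] at h3
    have h2 : B.relIndex W = 2 := by
      show (B.subgroupOf W).index = 2
      rw [Subgroup.index_eq_two_iff]
      refine ⟨⟨w, hw⟩, fun b => ?_⟩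
      rw [mem_subgroupOf, mem_subgroupOf]
      by_cases hb : (b : G) ∈ B
      · right
        refine ⟨hb, fun h3 => hwB ?_⟩
        have h4 : w = (b : G)⁻¹ * ((b : G) * w) := by group
        rw [h4]
        exact mul_mem (inv_mem hb) h3
      · left
        refine ⟨?_, hb⟩
        show (b : G) * w ∈ B
        rw [← h.normalizer_inf]
        have hbN : (b : G) ∈ normalizer (B : Set G) := hS₂N (hWS b.2)
        refine mem_inf.2 ⟨mul_mem hbN hwN, ?_⟩
        rw [mem_normalizer_iff_cj, ← cj_cj, hsw1, (h.swap_of_not_mem hbN hb).2]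
    have h3 : Nat.card ↥(W ⊓ B) * 2 = Nat.card W := by
      have := card_mul_relIndex (inf_le_left : W ⊓ B ≤ W)
      rwa [inf_relIndex_left, h2] at this
    have h4 : W ⊓ B = U₁ ⊓ U₂ := by
      apply Subgroup.eq_of_le_of_card_ge h1
      rw [h.cross.card_inf]
      omega
    apply hwB
    rw [← h.centralizer_inf]
    refine mem_centralizer_iff.2 fun y hy => ?_
    rw [← h4] at hy
    exact comm_of_elem hWE (mem_inf.1 hy).1 hw
  have hjj : jj S₂ = B := by
    rw [ChoiceBase.jj_eq]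
    apply le_antisymm
    · refine sSup_le fun W hW => ?_
      have h1 := hW.2.2 U₁ (isElem_of h.cross.elem₁) (h.cross.le₁.trans hBS₂)
      rw [h.cross.card₁] at h1
      exact key W hW.2.1 (sq_of_isElem hW.1) h1
    · have hmem : ∀ U : Subgroup G, (U = U₁ ∨ U = U₂) → U ∈ AA S₂ := by
        intro U hU
        have hUc : Nat.card U = 8 ∧ (∀ a ∈ U, a * a = 1) ∧ U ≤ B := by
          rcases hU with rfl | rfl
          · exact ⟨h.cross.card₁, h.cross.elem₁, h.cross.le₁⟩
          · exact ⟨h.cross.card₂, h.cross.elem₂, h.cross.le₂⟩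
        refine ⟨isElem_of hUc.2.1, hUc.2.2.trans hBS₂, fun W hW hWS => ?_⟩
        by_contra hcon
        push Not at hcon
        rw [hUc.1] at hcon
        have h1 := key W hWS (sq_of_isElem hW) hcon.le
        rcases h.cross.elem_le_or h1 (sq_of_isElem hW) with h2 | h2
        · have := Subgroup.card_le_of_le h2
          rw [h.cross.card₁] at this
          omega
        · have := Subgroup.card_le_of_le h2
          rw [h.cross.card₂] at this
          omega
      rw [← h.cross.sup_eq]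
      exact sup_le (le_sSup (hmem U₁ (Or.inl rfl))) (le_sSup (hmem U₂ (Or.inr rfl)))
  have hS₂eq : S₂ = (S : Subgroup G) := by
    apply ChoiceNse.eq_of_normalizer_inf_le S.isPGroup' hS₂S
    conv_rhs => rw [hS₂]
    refine le_inf (inf_le_left.trans ?_) inf_le_right
    have := normalizer_le_jj S₂
    rwa [hjj] at this
  refine ⟨by rw [← hS₂eq]; exact hjj, ?_⟩
  have h1 : (S : Subgroup G) ≤ normalizer (B : Set G) := hS₂eq ▸ hS₂N
  exact S.is_maximal' h.isPGroup_normalizer h1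

variable (hL : IsCharacteristicTwoType G)
  (hZ : ∀ S : Sylow 2 G, centralizer (zc (S : Subgroup G) : Set G) ≤
      normalizer ((S : Subgroup G) : Set G))

include hL hZ

theorem two {M T B U₁ U₂ : Subgroup G} (S : Sylow 2 G) (hM : IsTwoLocal M) (hD : Dat 2 B U₁ U₂)
    (hMJ : normalizer ((jj (S : Subgroup G) : Subgroup G) : Set G) ≤ M)
    (hT : T ∈ maxStraddlingTwoSubgroups M) :
    ∃ V₁ V₂ : Subgroup G, TS 2 M T V₁ V₂ := by
  have f2 : Fact (Nat.Prime 2) := ⟨Nat.prime_two⟩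
  have hTJ : normalizer ((jj T : Subgroup G) : Set G) ≤ M := normalizer_jj_le S hMJ hT
  obtain ⟨hTp, hT1, hTM, X₀, hX₀, hTX₀, hX₀M⟩ := hT.1
  have hSM : (S : Subgroup G) ≤ M :=
    (le_normalizer.trans (normalizer_le_jj (S : Subgroup G))).trans hMJ
  obtain ⟨S₁, hS₁, hTS₁⟩ := exists_syl hTp hTM
  obtain ⟨m, hm, hmS⟩ := syl_conj (CaseTwo.syl_of_sylow S hSM) hS₁
  -- `S₁` as a Sylow subgroup of `G`, and a conjugate of `B` in it
  obtain ⟨P, hP⟩ : ∃ P : Sylow 2 G, (P : Subgroup G) = S₁ := ⟨m • S, hmS⟩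
  obtain ⟨S'', hS''⟩ := hD.cross.two.exists_le_sylow
  obtain ⟨g, hg⟩ := MulAction.exists_smul_eq G S'' P
  have hgS : cj g (S'' : Subgroup G) = (P : Subgroup G) := by rw [← hg]; rfl
  have hD' := hD.cj g
  obtain ⟨B', hB'⟩ : ∃ B', B' = cj g B := ⟨_, rfl⟩
  obtain ⟨V₁, hV₁⟩ : ∃ V₁, V₁ = cj g U₁ := ⟨_, rfl⟩
  obtain ⟨V₂, hV₂⟩ : ∃ V₂, V₂ = cj g U₂ := ⟨_, rfl⟩
  rw [← hB', ← hV₁, ← hV₂] at hD'
  have hB'P : B' ≤ (P : Subgroup G) := by
    rw [hB', ← hgS]
    exact cj_mono g hS''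
  obtain ⟨hjP, hNP⟩ := two_sylow hD' P hB'P
  have hPM : (P : Subgroup G) ≤ M := by rw [hP]; exact hS₁.1
  have hTP : T ≤ (P : Subgroup G) := by rw [hP]; exact hTS₁
  have hNM : ¬ normalizer (V₁ : Set G) ≤ M ∨ ¬ normalizer (V₂ : Set G) ≤ M := by
    by_contra hcon
    push Not at hcon
    have h1 := hD'.max₁.2 M hM hcon.1
    have h2 := hD'.max₂.2 M hM hcon.2
    exact hD'.normalizer_ne (h1.symm.trans h2)
  have hB'1 : B' ≠ ⊥ := by
    intro h0
    have := hD'.cross.cardT
    rw [h0, Subgroup.card_bot] at this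
    norm_num at this
  have hB'str : B' ∈ straddlingTwoSubgroups M := by
    refine ⟨hD'.cross.two, hB'1, hB'P.trans hPM, ?_⟩
    rcases hNM with h1 | h1
    · exact ⟨_, hD'.max₁.1, hD'.cross.norm₁, h1⟩
    · exact ⟨_, hD'.max₂.1, hD'.cross.norm₂, h1⟩
  obtain ⟨h1, h2⟩ := hT.2 B' hB'str
  rw [maxElemAbelianOrder_eq, maxElemAbelianOrder_eq] at h1 h2
  have h3 : mm B' = mm (P : Subgroup G) := mm_eq_of_jj_le hjP.le hB'P
  have h4 : mm T ≤ mm B' := by rw [h3]; exact mm_mono hTP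
  have h5 : mm B' = mm T := le_antisymm h1 h4
  obtain ⟨h6, -⟩ := h2 h5
  have h7 : jj T ≤ B' := by
    rw [← hjP]
    exact jj_mono hTP (by rw [← h3, h5])
  have h8 : jj T = B' := by
    apply Subgroup.eq_of_le_of_card_ge h7
    have h9 : thompsonSubgroupOf 2 B' = B' := hD'.cross.jj_eq
    rwa [h9] at h6
  have hB'T : B' ≤ T := by rw [← h8]; exact jj_le T
  have hTN : T ≤ normalizer (B' : Set G) := by rw [hNP]; exact hTP
  -- `T = B'`
  have hTB : T = B' := by
    by_contra hne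
    obtain ⟨t, ht, htB⟩ : ∃ t ∈ T, t ∉ B' := by
      by_contra hcon
      push Not at hcon
      exact hne (le_antisymm hcon hB'T)
    have hsyl : Syl T X₀ := syl_of_not_le hTJ hT hX₀ hTX₀ hX₀M
    have hlt : zc T < zc (o2 X₀) := zc_lt hL hZ hTJ hX₀ hsyl hX₀M
    have hoT : o2 X₀ ≤ T := o2_le_syl hsyl
    have hVo : zc (o2 X₀) ≤ o2 X₀ := ChoiceSit.zc_le _
    have hVE := elem_zc (o2 X₀)
    have hXV := le_normalizer_zc_o2 X₀
    obtain ⟨V, hVdef⟩ : ∃ V, V = zc (o2 X₀) := ⟨_, rfl⟩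
    rw [← hVdef] at hlt hVo hVE hXV
    have hVT : V ≤ T := hVo.trans hoT
    have hVB : V ≤ B' := by
      by_contra hcon
      obtain ⟨v, hv, hvB⟩ := Set.not_subset.1 hcon
      obtain ⟨hsw1, hsw2⟩ := hD'.swap_of_not_mem (hTN (hVT hv)) hvB
      apply hD'.cross.not_le'
      rw [← hsw1]
      rintro _ ⟨f, hf, rfl⟩
      show v * f * v⁻¹ ∈ V₁
      have hfB : f ∈ B' := hD'.cross.le₁ hf
      have hc1 : v * f * v⁻¹ * f⁻¹ ∈ V := by
        have h10 : f * v⁻¹ * f⁻¹ ∈ V :=
          ((mem_normalizer_iff.1 (hXV (hTX₀ (hB'T hfB)))) _).1 (inv_mem hv)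
        have h11 : v * f * v⁻¹ * f⁻¹ = v * (f * v⁻¹ * f⁻¹) := by group
        rw [h11]
        exact mul_mem hv h10
      have hc2 : v * f * v⁻¹ * f⁻¹ ∈ B' :=
        mul_mem (((mem_normalizer_iff.1 (hTN (hVT hv))) f).1 hfB) (inv_mem hfB)
      have hc3 : v * f * v⁻¹ * f⁻¹ ∈ V₁ := by
        rcases hD'.cross.mem_or_of_sq hc2 (hVE _ hc1) with h12 | h12
        · exact h12
        · have h13 : v * (v * f * v⁻¹ * f⁻¹) * v⁻¹ ∈ ChoiceBase.cj v V₂ := ⟨_, h12, rfl⟩
          rw [hsw2] at h13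
          have h14 : v * (v * f * v⁻¹ * f⁻¹) * v⁻¹ = v * f * v⁻¹ * f⁻¹ := by
            rw [comm_of_elem hVE hv hc1]; group
          rwa [h14] at h13
      have h15 : v * f * v⁻¹ = v * f * v⁻¹ * f⁻¹ * f := by group
      rw [h15]
      exact mul_mem hc3 hf
    obtain ⟨hsw1, hsw2⟩ := hD'.swap_of_not_mem (hTN ht) htB
    have htV : cj t V = V := cj_eq_of_mem_normalizer (hXV (hTX₀ ht))
    have hVD : V ≤ V₁ ⊓ V₂ := by
      rcases hD'.cross.elem_le_or hVB hVE with h10 | h10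
      · refine le_inf h10 ?_
        rw [← hsw1, ← htV]
        exact cj_mono t h10
      · refine le_inf ?_ h10
        rw [← hsw2, ← htV]
        exact cj_mono t h10
    have hVD' : V = V₁ ⊓ V₂ := by
      apply Subgroup.eq_of_le_of_card_ge hVD
      rw [hD'.cross.card_inf]
      have h10 : 2 ≤ Nat.card (zc T) :=
        two_le_card (hTp.to_le (ChoiceSit.zc_le T)) (zc_ne_bot hTp hT1)
      have h11 : Nat.card (zc T) < Nat.card V := by
        refine lt_of_le_of_ne (Subgroup.card_le_of_le hlt.le) fun h => hlt.ne ?_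
        exact Subgroup.eq_of_le_of_card_ge hlt.le h.ge
      have h12 : Nat.card V ∣ 2 * 2 := by
        rw [← hD'.cross.card_inf]; exact Subgroup.card_dvd_of_le hVD
      have h13 : Nat.card V ≠ 3 := by intro h; rw [h] at h12; norm_num at h12
      omega
    apply hX₀M
    refine hXV.trans ?_
    rw [hVD']
    exact hD'.normalizer_inf_le.trans (hNP.le.trans hPM)
  subst hTB
  refine ⟨V₁, V₂, ⟨hD', ?_⟩⟩
  intro X hX hTX hXM
  have hsyl : Syl T X := syl_of_not_le hTJ hT hX hTX hXM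
  have hlt : zc T < zc (o2 X) := zc_lt hL hZ hTJ hX hsyl hXM
  have hoT : o2 X ≤ T := o2_le_syl hsyl
  have hVo : zc (o2 X) ≤ o2 X := ChoiceSit.zc_le _
  have hVE := elem_zc (o2 X)
  have hV8 : 8 ≤ Nat.card (zc (o2 X)) := by
    have h11 : Nat.card (zc T) < Nat.card (zc (o2 X)) := by
      refine lt_of_le_of_ne (Subgroup.card_le_of_le hlt.le) fun h => hlt.ne ?_
      exact Subgroup.eq_of_le_of_card_ge hlt.le h.ge
    rw [hD'.cross.zc_eq, hD'.cross.card_inf] at h11
    have h12 : Nat.card (zc (o2 X)) ∣ 4 * 2 := by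
      rcases hD'.cross.elem_le_or (hVo.trans hoT) hVE with h13 | h13
      · rw [← hD'.cross.card₁]; exact Subgroup.card_dvd_of_le h13
      · rw [← hD'.cross.card₂]; exact Subgroup.card_dvd_of_le h13
    have h14 : Nat.card (zc (o2 X)) ≤ 8 := Nat.le_of_dvd (by norm_num) h12
    generalize Nat.card (zc (o2 X)) = n at *
    interval_cases n <;> simp_all
  have hfin : ∀ V W : Subgroup G, Dat 2 T V W → zc (o2 X) = V → X = normalizer (V : Set G) := by
    intro V W hVW hz
    have h1 : o2 X = V := by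
      apply le_antisymm ?_ (hz ▸ hVo)
      refine le_trans ?_ hVW.cross.cent₁
      rw [← hz]
      intro x hx
      rw [mem_centralizer_iff]
      exact fun y hy => ((mem_zc.1 hy).2.2 x hx).symm
    have h2 : X ≤ normalizer (V : Set G) := by
      rw [← h1]; exact ChoiceSit.le_normalizer_o2 X
    rcases hVW.eq_or_eq hTX h2 with h3 | h3
    · exact absurd (h3.le.trans hTM) hXM
    · exact h3
  rcases hD'.cross.eq_or_of_card (hVo.trans hoT) hVE hV8 with h10 | h10
  · exact Or.inl (hfin V₁ V₂ hD' h10)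
  · exact Or.inr (hfin V₂ V₁ hD'.symm h10)

end Two

/-- **Structure theorem.** -/
theorem exists_ts [Finite G] (hL : IsCharacteristicTwoType G)
    (hN : ∀ N : Subgroup G, IsTwoLocal N → Group.IsSolvable N)
    (hZ : ∀ S : Sylow 2 G, centralizer (zc (S : Subgroup G) : Set G) ≤
      normalizer ((S : Subgroup G) : Set G)) (hO : pCore 2 G = ⊥)
    (S : Sylow 2 G) {M : Subgroup G} (hM : IsTwoLocal M)
    (hMJ : normalizer ((jj (S : Subgroup G) : Subgroup G) : Set G) ≤ M) {T : Subgroup G}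
    (hT : T ∈ maxStraddlingTwoSubgroups M) :
    ∃ (e : ℕ) (U₁ U₂ : Subgroup G), TS e M T U₁ U₂ := by
  obtain ⟨N, B, P, Q, hctx⟩ := ZNCtx.exists_ctx hL hN hZ hO S hM hMJ
    (Set.nonempty_iff_ne_empty.1 ⟨T, hT.1⟩)
  obtain ⟨e, U₁, U₂, hD⟩ := exists_dat_of_ctx hL hctx
  rcases hD.he with rfl | rfl
  · obtain ⟨V₁, V₂, h⟩ := one hL hZ hD (normalizer_jj_le S hMJ hT) hT
    exact ⟨1, V₁, V₂, h⟩
  · obtain ⟨V₁, V₂, h⟩ := two hL hZ S hM hD hMJ hT
    exact ⟨2, V₁, V₂, h⟩

end Cfsg.Agent.H252.ZNStruct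
end
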